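import Mathlib.RingTheory.MvPowerSeries.Trunc
import Mathlib.Algebra.MvPolynomial.Eval
import Mathlib.Data.Finsupp.Order

/-!
Evaluation of power series at nilpotent elements.
-/

set_option autoImplicit false
universe u v w

namespace Groth.Agent.Weier31

variable {R : Type u} [CommRing R] {C : Type v} [CommRing C] [Algebra R C] {σ : Type w}

/-- Power series can be evaluated at nilpotent elements. -/
theorem exists_algHom_powerSeries [DecidableEq σ] (τ : σ → C) (bd : σ →₀ ℕ) (hτ : ∀ i, τ i ^ (bd i + 1) = 0) :
    ∃ φ : MvPowerSeries σ R →ₐ[R] C, ∀ i, φ (MvPowerSeries.X i) = τ i := by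
  classical
  have hev : ∀ p : MvPolynomial σ R, (∀ s, s ≤ bd → p.coeff s = 0) → MvPolynomial.aeval τ p = 0 := by
    intro p hp
    rw [p.as_sum, map_sum]
    refine Finset.sum_eq_zero fun s hs => ?_
    obtain ⟨i, hi⟩ : ∃ i, bd i < s i := by
      by_contra hne
      push Not at hne
      exact MvPolynomial.mem_support_iff.1 hs (hp s hne)
    rw [MvPolynomial.aeval_monomial, Finsupp.prod]
    refine mul_eq_zero_of_right _ (Finset.prod_eq_zero (Finsupp.mem_support_iff.2 (Nat.ne_of_gt (Nat.lt_of_le_of_lt (Nat.zero_le _) hi))) ?_)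
    exact pow_eq_zero_of_le (show bd i + 1 ≤ s i by omega) (hτ i)
  refine ⟨{ toFun := fun z => MvPolynomial.aeval τ (MvPowerSeries.trunc' R bd z)
            map_one' := by rw [MvPowerSeries.trunc'_one, map_one]
            map_zero' := by rw [map_zero, map_zero]
            map_add' := fun z z' => by rw [map_add, map_add]
            map_mul' := fun z z' => by
              rw [← map_mul, ← sub_eq_zero, ← map_sub]
              refine hev _ fun s hs => ?_
              rw [sub_eq_add_neg, MvPolynomial.coeff_add, (show ∀ (m : σ →₀ ℕ) (p : MvPolynomial σ R), MvPolynomial.coeff m (-p) = -MvPolynomial.coeff m p from fun m p => map_neg (MvPolynomial.coeffAddMonoidHom m) p), ← sub_eq_add_neg, sub_eq_zero,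
                MvPowerSeries.coeff_trunc', if_pos hs, MvPowerSeries.coeff_trunc'_mul_trunc'_eq_coeff_mul bd z z' hs]
            commutes' := fun t => by
              rw [show algebraMap R (MvPowerSeries σ R) t = MvPowerSeries.C t from rfl, MvPowerSeries.trunc'_C,
                MvPolynomial.aeval_C] }, fun i => ?_⟩
  show MvPolynomial.aeval τ (MvPowerSeries.trunc' R bd (MvPowerSeries.X i)) = τ i
  rw [← sub_eq_zero, ← MvPolynomial.aeval_X (R := R) τ i, ← map_sub]
  refine hev _ fun s hs => ?_
  rw [sub_eq_add_neg, MvPolynomial.coeff_add, (show ∀ (m : σ →₀ ℕ) (p : MvPolynomial σ R), MvPolynomial.coeff m (-p) = -MvPolynomial.coeff m p from fun m p => map_neg (MvPolynomial.coeffAddMonoidHom m) p), ← sub_eq_add_neg, sub_eq_zero,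
    MvPowerSeries.coeff_trunc', if_pos hs, MvPowerSeries.coeff_X,
    MvPolynomial.coeff_X]
  simp [eq_comm]

end Groth.Agent.Weier31
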